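/-
The permutation character of `SL_n(q)` on nonzero vectors.
-/
import Mathlib
import Cfsg.Agent.Lib.Char.Induction

namespace Cfsg.Agent.VectorPerm

open Matrix Cfsg.Agent.Char
open scoped ComplexConjugate

variable {F : Type*} [Field F] [Fintype F] [DecidableEq F] {n : ℕ}

/-- nonzero vectors -/
abbrev NZ (n : ℕ) (F : Type*) [Field F] := {v : Fin n → F // v ≠ 0}

/-- the action of a matrix on a nonzero vector -/
def act (g : SpecialLinearGroup (Fin n) F) (v : NZ n F) : NZ n F :=
  ⟨g.1 *ᵥ v.1, fun h => v.2 (by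
    have h1 := congrArg ((g⁻¹).1 *ᵥ ·) h
    simp only [mulVec_mulVec, mulVec_zero] at h1
    rwa [show (g⁻¹).1 * g.1 = 1 from congrArg Subtype.val (inv_mul_cancel g), one_mulVec] at h1)⟩

instance nzAction : MulAction (SpecialLinearGroup (Fin n) F) (NZ n F) where
  smul := act
  one_smul v := Subtype.ext (one_mulVec _)
  mul_smul g h v := Subtype.ext
    (show (g * h).1 *ᵥ v.1 = g.1 *ᵥ (h.1 *ᵥ v.1) from (mulVec_mulVec _ _ _).symm)

theorem smul_val (g : SpecialLinearGroup (Fin n) F) (v : NZ n F) : (g • v).1 = g.1 *ᵥ v.1 := rfl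

theorem exists_sl_pair (hn : 3 ≤ n) {x y x' y' : Fin n → F} (h : LinearIndependent F ![x, y])
    (h' : LinearIndependent F ![x', y']) :
    ∃ g : SpecialLinearGroup (Fin n) F, g.1 *ᵥ x = x' ∧ g.1 *ᵥ y = y' := by
  classical
  let f := h.linearCombinationEquiv.symm ≪≫ₗ h'.linearCombinationEquiv
  have : FiniteDimensional F (Submodule.span F (Set.range ![x, y])) :=
    FiniteDimensional.span_of_finite F (Set.finite_range _)
  obtain ⟨L, hL⟩ := Submodule.exists_linearEquiv_restrict_eq f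
  have hx : L x = x' := by
    have := hL (h.linearCombinationEquiv (Finsupp.single 0 1))
    simp [f] at this
    exact this.symm
  have hy : L y = y' := by
    have := hL (h.linearCombinationEquiv (Finsupp.single 1 1))
    simp [f] at this
    exact this.symm
  let A := LinearMap.toMatrix' (L : (Fin n → F) →ₗ[F] (Fin n → F))
  have hA : ∀ v, A *ᵥ v = L v := fun v => by simp [A]
  have hdet : A.det ≠ 0 := by
    simp only [A, LinearMap.det_toMatrix']
    exact (LinearEquiv.isUnit_det' L).ne_zero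
  -- a functional vanishing on both vectors
  obtain ⟨φ, hφ, hφ0⟩ : ∃ φ : Fin n → F, (φ ⬝ᵥ x = 0 ∧ φ ⬝ᵥ y = 0) ∧ φ ≠ 0 := by
    let M : (Fin n → F) →ₗ[F] (Fin 2 → F) := Matrix.mulVecLin (Matrix.of ![x, y])
    obtain ⟨φ, hφ, hφ0⟩ := (LinearMap.ker M).exists_mem_ne_zero_of_ne_bot
      (LinearMap.ker_ne_bot_of_finrank_lt (by simp; omega))
    refine ⟨φ, ⟨?_, ?_⟩, hφ0⟩
    · have := congrFun (LinearMap.mem_ker.1 hφ) 0
      simpa [M, mulVec, dotProduct_comm] using this
    · have := congrFun (LinearMap.mem_ker.1 hφ) 1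
      simpa [M, mulVec, dotProduct_comm] using this
  obtain ⟨i, hi⟩ := Function.ne_iff.1 hφ0
  let B : Matrix (Fin n) (Fin n) F :=
    1 + replicateCol Unit (Pi.single i ((A.det⁻¹ - 1) / φ i)) * replicateRow Unit φ
  have hB : B.det = A.det⁻¹ := by
    simp only [B]
    rw [det_one_add_replicateCol_mul_replicateRow, dotProduct_single, mul_div_cancel₀ _ hi, add_sub_cancel]
  have hBv : ∀ v, φ ⬝ᵥ v = 0 → B *ᵥ v = v := fun v hv => by
    simp only [B]
    rw [← vecMulVec_eq Unit, add_mulVec, one_mulVec, vecMulVec_mulVec, hv]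
    simp
  refine ⟨⟨A * B, by rw [det_mul, hB, mul_inv_cancel₀ hdet]⟩, ?_, ?_⟩
  · change (A * B) *ᵥ x = x'
    rw [← mulVec_mulVec, hBv x hφ.1, hA, hx]
  · change (A * B) *ᵥ y = y'
    rw [← mulVec_mulVec, hBv y hφ.2, hA, hy]

theorem exists_indep_partner (hn : 2 ≤ n) (x : NZ n F) : ∃ z : Fin n → F, LinearIndependent F ![x.1, z] := by
  classical
  obtain ⟨i, hi⟩ := Function.ne_iff.1 x.2
  have : Nontrivial (Fin n) := Fin.nontrivial_iff_two_le.2 hn
  obtain ⟨k, hk⟩ := exists_ne i
  refine ⟨Pi.single k 1, LinearIndependent.pair_iff.2 fun a b h => ?_⟩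
  have h1 := congrFun h i
  have h2 := congrFun h k
  simp [hk.symm] at h1
  obtain rfl : a = 0 := h1.resolve_right hi
  simpa using h2

theorem pretransitive (hn : 3 ≤ n) : MulAction.IsPretransitive (SpecialLinearGroup (Fin n) F) (NZ n F) := by
  refine ⟨fun x y => ?_⟩
  obtain ⟨z, hz⟩ := exists_indep_partner (by omega) x
  obtain ⟨w, hw⟩ := exists_indep_partner (by omega) y
  obtain ⟨g, hg, -⟩ := exists_sl_pair hn hz hw
  exact ⟨g, Subtype.ext hg⟩

/-- the permutation character -/
noncomputable def perm (n : ℕ) (F : Type*) [Field F] [Fintype F] [DecidableEq F] :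
    SpecialLinearGroup (Fin n) F → ℂ :=
  fun g => (Nat.card (MulAction.fixedBy (NZ n F) g) : ℂ)

open scoped Classical in
/-- The invariant of a pair. -/
noncomputable def pairInv (p : NZ n F × NZ n F) : Option Fˣ :=
  if h : ∃ c : Fˣ, p.2.1 = (c : F) • p.1.1 then some h.choose else none

theorem pairInv_some {p : NZ n F × NZ n F} {c : Fˣ} : pairInv p = some c ↔ p.2.1 = (c : F) • p.1.1 := by
  constructor
  · intro h
    unfold pairInv at h
    split_ifs at h with h'
    rw [← Option.some.inj h]; exact h'.choose_spec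
  · intro h
    unfold pairInv
    rw [dif_pos ⟨c, h⟩]
    have hs := (⟨c, h⟩ : ∃ c : Fˣ, p.2.1 = (c : F) • p.1.1).choose_spec
    exact congrArg some (Units.ext (smul_left_injective F p.1.2 (hs.symm.trans h)))

theorem indep_of_none {p : NZ n F × NZ n F} (h : pairInv p = none) :
    LinearIndependent F ![p.1.1, p.2.1] := by
  refine (LinearIndependent.pair_iff' p.1.2).2 fun a ha => ?_
  by_cases h0 : a = 0
  · exact p.2.2 (by rw [← ha, h0, zero_smul])
  · have := (pairInv_some (c := Units.mk0 a h0)).2 ha.symm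
    rw [h] at this
    cases this

theorem card_orbits (hn : 3 ≤ n) :
    Nat.card (Quotient (MulAction.orbitRel (SpecialLinearGroup (Fin n) F) (NZ n F × NZ n F))) =
      Fintype.card F := by
  classical
  have hpre := pretransitive (F := F) hn
  have hinv : ∀ (g : SpecialLinearGroup (Fin n) F) (p : NZ n F × NZ n F), pairInv (g • p) = pairInv p := by
    intro g p
    rcases h : pairInv p with _ | c
    · by_contra hne
      obtain ⟨c, hc⟩ := Option.ne_none_iff_exists'.1 hne
      have h1 := pairInv_some.1 hc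
      rw [Prod.smul_fst, Prod.smul_snd, smul_val, smul_val, ← mulVec_smul] at h1
      have hg : Function.Injective (g.1 *ᵥ ·) := Matrix.mulVec_injective_iff_isUnit.2
        ((Matrix.isUnit_iff_isUnit_det _).2 (by rw [g.2]; exact isUnit_one))
      rw [pairInv_some.2 (hg h1)] at h
      cases h
    · rw [pairInv_some] at h ⊢
      rw [Prod.smul_fst, Prod.smul_snd, smul_val, smul_val, h, mulVec_smul]
  let f : Quotient (MulAction.orbitRel (SpecialLinearGroup (Fin n) F) (NZ n F × NZ n F)) → Option Fˣ :=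
    Quotient.lift pairInv (fun a b hab => by
      obtain ⟨g, rfl⟩ := (MulAction.orbitRel_apply.1 hab)
      exact hinv g b)
  have hf : Function.Bijective f := by
    constructor
    · rintro ⟨a⟩ ⟨b⟩ h
      change pairInv a = pairInv b at h
      refine Quotient.sound (MulAction.orbitRel_apply.2 ?_)
      rcases ha : pairInv a with _ | c
      · obtain ⟨g, h1, h2⟩ := exists_sl_pair hn (indep_of_none (h ▸ ha : pairInv b = none)) (indep_of_none ha)
        exact ⟨g, Prod.ext (Subtype.ext h1) (Subtype.ext h2)⟩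
      · obtain ⟨g, hg⟩ := hpre.exists_smul_eq b.1 a.1
        refine ⟨g, Prod.ext hg (Subtype.ext ?_)⟩
        change g.1 *ᵥ b.2.1 = a.2.1
        rw [pairInv_some.1 (h ▸ ha : pairInv b = some c), pairInv_some.1 ha, mulVec_smul,
          show g.1 *ᵥ b.1.1 = a.1.1 from congrArg Subtype.val hg]
    · intro o
      let x : NZ n F := ⟨Pi.single ⟨0, by omega⟩ 1, fun h => by simpa using congrFun h ⟨0, by omega⟩⟩
      rcases o with _ | c
      · obtain ⟨z, hz⟩ := exists_indep_partner (by omega) x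
        refine ⟨Quotient.mk _ (x, ⟨z, hz.ne_zero 1⟩), ?_⟩
        change pairInv _ = _
        by_contra hne
        obtain ⟨c, hc⟩ := Option.ne_none_iff_exists'.1 hne
        exact (LinearIndependent.pair_iff' x.2).1 hz _ (pairInv_some.1 hc).symm
      · exact ⟨Quotient.mk _ (x, ⟨(c : F) • x.1, smul_ne_zero c.ne_zero x.2⟩), pairInv_some.2 rfl⟩
  rw [Nat.card_congr (Equiv.ofBijective f hf), Nat.card_eq_fintype_card, Fintype.card_option,
    Fintype.card_units, Nat.sub_add_cancel Fintype.card_pos]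

theorem classInner_perm (hn : 3 ≤ n) : Cfsg.classInner (perm n F) (perm n F) = (Fintype.card F : ℂ) := by
  classical
  have h := MulAction.sum_card_fixedBy_eq_card_orbits_mul_card_group (SpecialLinearGroup (Fin n) F)
    (NZ n F × NZ n F)
  have hfix : ∀ g : SpecialLinearGroup (Fin n) F, Fintype.card (MulAction.fixedBy (NZ n F × NZ n F) g) =
      Nat.card (MulAction.fixedBy (NZ n F) g) * Nat.card (MulAction.fixedBy (NZ n F) g) := fun g => by
    rw [← Nat.card_eq_fintype_card, ← Nat.card_prod]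
    refine Nat.card_congr ((Equiv.subtypeEquivRight fun p => ?_).trans (Equiv.subtypeProdEquivProd))
    simp [MulAction.mem_fixedBy, Prod.ext_iff]
  rw [Finset.sum_congr rfl fun g _ => hfix g, ← Nat.card_eq_fintype_card
    (α := Quotient (MulAction.orbitRel (SpecialLinearGroup (Fin n) F) (NZ n F × NZ n F))), card_orbits hn] at h
  have h' : (∑ g : SpecialLinearGroup (Fin n) F, perm n F g * conj (perm n F g)) =
      (Fintype.card F : ℂ) * (Fintype.card (SpecialLinearGroup (Fin n) F) : ℂ) := by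
    rw [← Nat.cast_mul, ← h, Nat.cast_sum]
    refine Finset.sum_congr rfl fun g _ => ?_
    simp [perm]
  rw [Cfsg.classInner, h', Nat.card_eq_fintype_card, mul_comm (Fintype.card F : ℂ), ← mul_assoc,
    inv_mul_cancel₀ (Nat.cast_ne_zero.2 Fintype.card_ne_zero), one_mul]

variable (x₀ : NZ n F)

/-- stabiliser of the line -/
def lineStab : Subgroup (SpecialLinearGroup (Fin n) F) where
  carrier := {g | ∃ c : Fˣ, g.1 *ᵥ x₀.1 = (c : F) • x₀.1}
  one_mem' := ⟨1, by simp⟩
  mul_mem' := by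
    rintro a b ⟨c, hc⟩ ⟨e, he⟩
    refine ⟨c * e, ?_⟩
    change (a.1 * b.1) *ᵥ x₀.1 = _
    rw [← mulVec_mulVec, he, mulVec_smul, hc, smul_smul, Units.val_mul, mul_comm]
  inv_mem' := by
    rintro a ⟨c, hc⟩
    refine ⟨c⁻¹, ?_⟩
    have h1 := congrArg ((a⁻¹).1 *ᵥ ·) hc
    simp only [mulVec_mulVec, mulVec_smul] at h1
    rw [show (a⁻¹).1 * a.1 = 1 from congrArg Subtype.val (inv_mul_cancel a), one_mulVec] at h1
    conv_rhs => rw [h1, smul_smul, Units.inv_mul, one_smul]

/-- the eigenvalue as a value -/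
noncomputable def eigVal (g : lineStab x₀) : Fˣ := g.2.choose

theorem eigVal_spec (g : lineStab x₀) : g.1.1 *ᵥ x₀.1 = (eigVal x₀ g : F) • x₀.1 := g.2.choose_spec

theorem eigVal_eq {g : lineStab x₀} {c : Fˣ} (h : g.1.1 *ᵥ x₀.1 = (c : F) • x₀.1) : eigVal x₀ g = c :=
  Units.ext (smul_left_injective F x₀.2 ((eigVal_spec x₀ g).symm.trans h))

/-- the eigenvalue -/
noncomputable def eig : lineStab x₀ →* Fˣ where
  toFun := eigVal x₀
  map_one' := eigVal_eq x₀ (show (1 : Matrix (Fin n) (Fin n) F) *ᵥ x₀.1 = _ by simp)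
  map_mul' a b := eigVal_eq x₀ (show (a.1.1 * b.1.1) *ᵥ x₀.1 = _ by
    rw [← mulVec_mulVec, eigVal_spec, mulVec_smul, eigVal_spec, smul_smul, Units.val_mul, mul_comm])

theorem eig_spec (g : lineStab x₀) : g.1.1 *ᵥ x₀.1 = (eig x₀ g : F) • x₀.1 := eigVal_spec x₀ g

theorem eig_eq_one (g : lineStab x₀) : eig x₀ g = 1 ↔ (g : SpecialLinearGroup (Fin n) F) • x₀ = x₀ := by
  constructor
  · intro h
    refine Subtype.ext ?_
    rw [smul_val, eig_spec, h, Units.val_one, one_smul]
  · intro h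
    refine Units.ext (smul_left_injective F x₀.2 ?_)
    have := congrArg Subtype.val h
    rw [smul_val, eig_spec] at this
    simpa using this

theorem eig_surjective (hn : 3 ≤ n) : Function.Surjective (eig x₀) := by
  intro c
  obtain ⟨g, hg⟩ := (pretransitive (F := F) hn).exists_smul_eq x₀ ⟨(c : F) • x₀.1, smul_ne_zero c.ne_zero x₀.2⟩
  have hg' : g.1 *ᵥ x₀.1 = (c : F) • x₀.1 := congrArg Subtype.val hg
  refine ⟨⟨g, c, hg'⟩, Units.ext (smul_left_injective F x₀.2 ?_)⟩
  exact (eig_spec x₀ ⟨g, c, hg'⟩).symm.trans hg'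

/-- linear character of the line stabiliser -/
noncomputable def lam (l : Fˣ →* ℂˣ) : lineStab x₀ → ℂ := fun g => (l (eig x₀ g) : ℂ)

theorem isIrr_lam (l : Fˣ →* ℂˣ) : Cfsg.IsIrrCharacter (lineStab x₀) (lam x₀ l) :=
  isIrrCharacter_linear (l.comp (eig x₀))

theorem card_dual : Nat.card (Fˣ →* ℂˣ) = Fintype.card F - 1 := by
  classical
  obtain ⟨e⟩ := CommGroup.monoidHom_mulEquiv_of_hasEnoughRootsOfUnity Fˣ ℂ
  rw [Nat.card_congr e.toEquiv, Nat.card_eq_fintype_card, Fintype.card_units]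

theorem sum_dual [Fintype (Fˣ →* ℂˣ)] (c : Fˣ) (hc : c ≠ 1) : ∑ l : Fˣ →* ℂˣ, (l c : ℂ) = 0 := by
  obtain ⟨φ, hφ⟩ := CommGroup.exists_apply_ne_one_of_hasEnoughRootsOfUnity Fˣ ℂ hc
  have h : (φ c : ℂ) * ∑ l : Fˣ →* ℂˣ, (l c : ℂ) = ∑ l : Fˣ →* ℂˣ, (l c : ℂ) := by
    rw [Finset.mul_sum]
    exact Fintype.sum_equiv (Equiv.mulLeft φ) _ _ fun l => by simp
  exact (mul_left_eq_self₀.1 h).resolve_left fun e => hφ (Units.ext e)

theorem sum_indFun (hn : 3 ≤ n) [Fintype (Fˣ →* ℂˣ)] :
    ∑ l : Fˣ →* ℂˣ, Cfsg.indFun (lineStab x₀) (lam x₀ l) = perm n F := by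
  classical
  have hpre := pretransitive (F := F) hn
  funext g
  have hstab := indFun_stabilizer (G := SpecialLinearGroup (Fin n) F) (NZ n F) x₀ g
  rw [perm, ← hstab, ← indFun_sum, indFun_apply, indFun_apply]
  set S := MulAction.stabilizer (SpecialLinearGroup (Fin n) F) x₀ with hS
  have hcard : (Nat.card (lineStab x₀) : ℂ) = ((Fintype.card F - 1 : ℕ) : ℂ) * (Nat.card S : ℂ) := by
    rw [← Nat.cast_mul]
    congr 1
    rw [Subgroup.card_eq_card_quotient_mul_card_subgroup (eig x₀).ker,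
      Nat.card_congr (QuotientGroup.quotientKerEquivOfSurjective _ (eig_surjective x₀ hn)).toEquiv,
      Nat.card_eq_fintype_card, Fintype.card_units]
    congr 1
    refine Nat.card_congr
      { toFun := fun h => ⟨h.1.1, (eig_eq_one x₀ h.1).1 h.2⟩
        invFun := fun s => ⟨⟨s.1, 1, by simpa [smul_val] using congrArg Subtype.val s.2⟩,
          (eig_eq_one x₀ _).2 s.2⟩
        left_inv := fun h => rfl
        right_inv := fun s => rfl }
  have hext : ∀ y, Cfsg.extendByZero (lineStab x₀) (∑ l, lam x₀ l) y =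
      ((Fintype.card F - 1 : ℕ) : ℂ) * Cfsg.extendByZero S (fun _ => 1) y := by
    intro y
    by_cases hy : y ∈ lineStab x₀
    · rw [extendByZero_mem _ _ hy, Finset.sum_apply]
      by_cases h1 : eig x₀ ⟨y, hy⟩ = 1
      · rw [extendByZero_mem S _ (MulAction.mem_stabilizer_iff.2 ((eig_eq_one x₀ ⟨y, hy⟩).1 h1))]
        simp only [lam, h1, map_one, Units.val_one, Finset.sum_const, Finset.card_univ, nsmul_eq_mul]
        rw [← Nat.card_eq_fintype_card (α := Fˣ →* ℂˣ), card_dual]
      · rw [extendByZero_not_mem S _ fun h => h1 ((eig_eq_one x₀ ⟨y, hy⟩).2 h), mul_zero]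
        exact sum_dual _ h1
    · rw [extendByZero_not_mem _ _ hy, extendByZero_not_mem S _ fun h => hy ⟨1, ?_⟩, mul_zero]
      simpa [smul_val] using congrArg Subtype.val h
  rw [Finset.sum_congr rfl fun y _ => hext _, ← Finset.mul_sum, hcard]
  have hq : ((Fintype.card F - 1 : ℕ) : ℂ) ≠ 0 :=
    Nat.cast_ne_zero.2 (by have := Fintype.one_lt_card (α := F); omega)
  have hSne : (Nat.card S : ℂ) ≠ 0 := Nat.cast_ne_zero.2 Nat.card_pos.ne'
  field_simp

theorem classInner_indFun_one [Fintype (lineStab x₀)] (hn : 3 ≤ n) (l : Fˣ →* ℂˣ) :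
    Cfsg.classInner (Cfsg.indFun (lineStab x₀) (lam x₀ l)) (fun _ => 1) = if l = 1 then 1 else 0 := by
  classical
  rw [classInner_indFun_left _ _ (IsCharacter.isClassFunction isCharacter_one)]
  rw [classInner_irr (isIrr_lam x₀ l) isIrrCharacter_one]
  refine if_congr ⟨fun h => MonoidHom.ext fun c => ?_, fun h => ?_⟩ rfl rfl
  · obtain ⟨p, rfl⟩ := eig_surjective x₀ hn c
    exact Units.ext (congrFun h p)
  · subst h; rfl

theorem main_deg (hn : 3 ≤ n) :
    ∃ χ : Fin (Fintype.card F - 1) → (SpecialLinearGroup (Fin n) F → ℂ),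
      (∀ i, Cfsg.IsIrrCharacter (SpecialLinearGroup (Fin n) F) (χ i)) ∧ Function.Injective χ ∧
      (∀ g : SpecialLinearGroup (Fin n) F,
        (Nat.card {v : Fin n → F // v ≠ 0 ∧ g.1 *ᵥ v = v} : ℂ) = 1 + ∑ i, χ i g) ∧
      ∃ T : ℕ, (T + 1) * (Fintype.card F - 1) = Fintype.card F ^ n - 1 ∧
        (∀ i, χ i 1 = (T : ℂ) ∨ χ i 1 = ((T + 1 : ℕ) : ℂ)) ∧ ∃ i, χ i 1 = (T : ℂ) := by
  classical
  let x : NZ n F := ⟨Pi.single ⟨0, by omega⟩ 1, fun h => by simpa using congrFun h ⟨0, by omega⟩⟩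
  have : Fintype (Fˣ →* ℂˣ) :=
    Fintype.ofEquiv _ (Classical.choice (CommGroup.monoidHom_mulEquiv_of_hasEnoughRootsOfUnity Fˣ ℂ)).symm.toEquiv
  have : Fintype (lineStab x) := Fintype.ofFinite _
  set G := SpecialLinearGroup (Fin n) F
  let π : (Fˣ →* ℂˣ) → G → ℂ := fun l => Cfsg.indFun (lineStab x) (lam x l)
  let χ : (Fˣ →* ℂˣ) → G → ℂ := fun l => π l - if l = 1 then (fun _ => (1 : ℂ)) else (0 : G → ℂ)
  have hπc : ∀ l, Cfsg.IsCharacter G (π l) := fun l =>
    isCharacter_indFun _ (IsIrrCharacter.isCharacter (isIrr_lam x l))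
  have h1 : ∀ l, Cfsg.classInner (π l) (fun _ => (1 : ℂ)) = if l = 1 then 1 else 0 :=
    classInner_indFun_one x hn
  have hχc : ∀ l, Cfsg.IsCharacter G (χ l) := by
    intro l
    by_cases hl : l = 1
    · refine isCharacter_of_classInner ?_ fun ψ => ?_
      · have := IsCharacter.isClassFunction (hπc l)
        intro g h
        simp only [χ, hl, if_true, Pi.sub_apply]
        rw [← hl, this g h]
      · obtain ⟨m, hm⟩ := IsCharacter.exists_classInner_nat (hπc l) (IsIrrCharacter.isCharacter ψ.2)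
        simp only [χ, hl, if_true]
        rw [classInner_sub_left, ← hl, hm, classInner_irr isIrrCharacter_one ψ.2]
        split_ifs with hψ
        · refine ⟨m - 1, ?_⟩
          have hm1 : m = 1 := by
            have := h1 l
            rw [hψ, hm, if_pos hl] at this
            exact_mod_cast this
          rw [hm1]; simp
        · exact ⟨m, by simp⟩
    · have : χ l = π l := by simp [χ, hl]
      rw [this]; exact hπc l
  have hdeg : ∀ l, χ l 1 ≠ 0 := by
    intro l
    have hπ1 : π l 1 = ((lineStab x).index : ℂ) := by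
      change Cfsg.indFun _ _ 1 = _
      rw [indFun_one_apply]
      simp [lam]
    have hidx : 2 ≤ (lineStab x).index := by
      have h0 : (lineStab x).index ≠ 0 := Subgroup.index_ne_zero_of_finite
      suffices (lineStab x).index ≠ 1 by omega
      intro h
      rw [Subgroup.index_eq_one] at h
      obtain ⟨z, hz⟩ := exists_indep_partner (by omega) x
      obtain ⟨g, hg⟩ := (pretransitive (F := F) hn).exists_smul_eq x ⟨z, hz.ne_zero 1⟩
      obtain ⟨c, hc⟩ : g ∈ lineStab x := h ▸ Subgroup.mem_top g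
      exact (LinearIndependent.pair_iff' x.2).1 hz _ (hc.symm.trans (congrArg Subtype.val hg))
    by_cases hl : l = 1
    · simp only [χ, hl, if_true, Pi.sub_apply]
      rw [← hl, hπ1, sub_ne_zero]
      intro e
      have : (lineStab x).index = 1 := by exact_mod_cast e
      omega
    · simp only [χ, hl, if_false, sub_zero]
      rw [hπ1]
      exact Nat.cast_ne_zero.2 (by omega)
  have hsum : ∑ l, χ l = perm n F - fun _ => (1 : ℂ) := by
    simp only [χ, Finset.sum_sub_distrib, Finset.sum_ite_eq', Finset.mem_univ, if_true]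
    rw [sum_indFun x hn]
  have hperm1 : Cfsg.classInner (perm n F) (fun _ => (1 : ℂ)) = 1 := by
    rw [← sum_indFun x hn, classInner_sum_left]
    change ∑ l, Cfsg.classInner (π l) (fun _ => (1 : ℂ)) = 1
    rw [Finset.sum_congr rfl fun l _ => h1 l, Finset.sum_ite_eq', if_pos (Finset.mem_univ _)]
  choose m hm using fun p : (Fˣ →* ℂˣ) × (Fˣ →* ℂˣ) =>
    IsCharacter.exists_classInner_nat (hχc p.1) (hχc p.2)
  have htotal : ∑ p : (Fˣ →* ℂˣ) × (Fˣ →* ℂˣ), m p = Fintype.card F - 1 := by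
    have e : ((∑ p : (Fˣ →* ℂˣ) × (Fˣ →* ℂˣ), m p : ℕ) : ℂ) = ((Fintype.card F - 1 : ℕ) : ℂ) := by
      rw [Nat.cast_sum, Finset.sum_congr rfl fun p _ => (hm p).symm, Fintype.sum_prod_type]
      simp only [← classInner_sum_right]
      rw [← classInner_sum_left, hsum, classInner_sub_left, classInner_sub_right, classInner_sub_right,
        classInner_perm hn, hperm1, ← classInner_conj_symm (perm n F) (fun _ => (1 : ℂ)), hperm1, map_one,
        classInner_self_irr isIrrCharacter_one, sub_self, sub_zero,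
        Nat.cast_sub (Fintype.card_pos), Nat.cast_one]
    exact_mod_cast e
  have hdiag : ∀ l, 1 ≤ m (l, l) := fun l => by
    by_contra h
    have h0 : m (l, l) = 0 := by omega
    have := hm (l, l)
    rw [h0, Nat.cast_zero] at this
    exact hdeg l (by rw [classInner_self_eq_zero this]; rfl)
  have hD : ∑ l, m (l, l) + ∑ p ∈ Finset.univ.filter (fun p : (Fˣ →* ℂˣ) × (Fˣ →* ℂˣ) => p.1 ≠ p.2), m p =
      Fintype.card F - 1 := by
    rw [← htotal, ← Finset.sum_filter_add_sum_filter_not Finset.univ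
      (fun p : (Fˣ →* ℂˣ) × (Fˣ →* ℂˣ) => p.1 = p.2) m]
    congr 1
    refine Finset.sum_bij (fun l _ => (l, l)) (fun l _ => by simp) (fun a _ b _ h => (Prod.mk.inj h).1)
      (fun p hp => ⟨p.1, Finset.mem_univ _, ?_⟩) (fun l _ => rfl)
    simp only [Finset.mem_filter] at hp
    exact Prod.ext rfl hp.2
  have hlow : Fintype.card F - 1 ≤ ∑ l, m (l, l) := by
    rw [← card_dual (F := F), Nat.card_eq_fintype_card, ← Finset.card_univ, Finset.card_eq_sum_ones]
    exact Finset.sum_le_sum fun l _ => hdiag l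
  have hone : ∀ l, m (l, l) = 1 := fun l => by
    by_contra h
    have : ∑ _l : Fˣ →* ℂˣ, 1 < ∑ l, m (l, l) :=
      Finset.sum_lt_sum (fun l _ => hdiag l) ⟨l, Finset.mem_univ _, by have := hdiag l; omega⟩
    rw [← Finset.card_eq_sum_ones, Finset.card_univ, ← Nat.card_eq_fintype_card, card_dual] at this
    omega
  have hoff : ∀ a b, a ≠ b → m (a, b) = 0 := fun a b hab =>
    (Finset.sum_eq_zero_iff.1 (by omega :
      ∑ p ∈ Finset.univ.filter (fun p : (Fˣ →* ℂˣ) × (Fˣ →* ℂˣ) => p.1 ≠ p.2), m p = 0)) (a, b) (by simp [hab])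
  let e : Fin (Fintype.card F - 1) ≃ (Fˣ →* ℂˣ) :=
    (Fintype.equivFinOfCardEq (by rw [← Nat.card_eq_fintype_card, card_dual])).symm
  have hπ1 : ∀ l, π l 1 = ((lineStab x).index : ℂ) := fun l => by
    change Cfsg.indFun _ _ 1 = _
    rw [indFun_one_apply]
    simp [lam]
  have hidx : (lineStab x).index * (Fintype.card F - 1) = Fintype.card F ^ n - 1 := by
    have h := congrFun (sum_indFun x hn) 1
    rw [Finset.sum_apply, Finset.sum_congr rfl fun l _ => hπ1 l, Finset.sum_const, Finset.card_univ,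
      ← Nat.card_eq_fintype_card, card_dual, nsmul_eq_mul, perm, ← Nat.cast_mul] at h
    have h' := Nat.cast_injective (R := ℂ) h
    rw [mul_comm, h', ← Nat.card_congr (Equiv.subtypeUnivEquiv fun v : NZ n F => MulAction.mem_fixedBy.2
      (one_smul (SpecialLinearGroup (Fin n) F) v)).symm, Nat.card_eq_fintype_card,
      Fintype.card_subtype_compl, Fintype.card_fun, Fintype.card_fin, Fintype.card_subtype_eq]
  obtain ⟨T, hT⟩ : ∃ T, (lineStab x).index = T + 1 :=
    ⟨(lineStab x).index - 1, by have : (lineStab x).index ≠ 0 := Subgroup.index_ne_zero_of_finite; omega⟩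
  refine ⟨χ ∘ e, fun i => IsCharacter.isIrr_of_norm_one (hχc _) ?_, fun i j hij => ?_, fun g => ?_,
    T, hT ▸ hidx, fun i => ?_, e.symm 1, ?_⟩
  · change Cfsg.classInner (χ (e i)) (χ (e i)) = 1
    rw [hm (e i, e i), hone, Nat.cast_one]
  · by_contra hne
    have h0 := hm (e i, e j)
    rw [hoff _ _ (fun h => hne (e.injective h)), Nat.cast_zero] at h0
    change Cfsg.classInner (χ (e i)) (χ (e j)) = 0 at h0
    rw [show χ (e j) = χ (e i) from hij.symm] at h0
    exact hdeg _ (by rw [classInner_self_eq_zero h0]; rfl)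
  · have hg := congrFun hsum g
    rw [Finset.sum_apply, Pi.sub_apply] at hg
    change _ = 1 + ∑ i, χ (e i) g
    rw [Equiv.sum_comp e fun l => χ l g, hg, add_sub_cancel]
    change _ = ((Nat.card (MulAction.fixedBy (NZ n F) g) : ℕ) : ℂ)
    norm_cast
    exact Nat.card_congr
      { toFun := fun v => ⟨⟨v.1, v.2.1⟩, Subtype.ext v.2.2⟩
        invFun := fun v => ⟨v.1.1, v.1.2, congrArg Subtype.val v.2⟩
        left_inv := fun v => rfl
        right_inv := fun v => rfl }
  · by_cases hl : e i = 1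
    · left
      change χ (e i) 1 = _
      simp only [χ, hl, if_true, Pi.sub_apply]
      rw [← hl, hπ1, hT]; push_cast; ring
    · right
      change χ (e i) 1 = _
      simp only [χ, hl, if_false, sub_zero]
      rw [hπ1, hT]
  · change χ (e (e.symm 1)) 1 = _
    rw [Equiv.apply_symm_apply]
    simp only [χ, if_true, Pi.sub_apply]
    rw [hπ1, hT]; push_cast; ring

theorem main (hn : 3 ≤ n) :
    ∃ χ : Fin (Fintype.card F - 1) → (SpecialLinearGroup (Fin n) F → ℂ),
      (∀ i, Cfsg.IsIrrCharacter (SpecialLinearGroup (Fin n) F) (χ i)) ∧ Function.Injective χ ∧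
      ∀ g : SpecialLinearGroup (Fin n) F,
        (Nat.card {v : Fin n → F // v ≠ 0 ∧ g.1 *ᵥ v = v} : ℂ) = 1 + ∑ i, χ i g := by
  obtain ⟨χ, h1, h2, h3, -⟩ := main_deg (F := F) hn
  exact ⟨χ, h1, h2, h3⟩

end Cfsg.Agent.VectorPerm
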